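import Groth.Agent.Lib.ProjLift21.Sec
import Groth.Agent.Lib.Tango28.Forms
import Groth.Agent.S10908

/-!
# Linear forms as global sections of `O(1)` on projective space
-/

set_option autoImplicit false
set_option linter.all false
set_option backward.isDefEq.respectTransparency false
set_option backward.isDefEq.respectTransparency.types false
set_option maxHeartbeats 1000000
set_option synthInstance.maxHeartbeats 200000

universe u

open CategoryTheory CategoryTheory.Limits AlgebraicGeometry TopologicalSpace Opposite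
open GrothLib.Ample.ProjTwist (ev evT evT_ext evT_smul evT_gsec gsec)

noncomputable section

namespace GrothLib.PGL26

variable {n : ℕ} {k : Type u} [Field k]

/-- `O(1)`. -/
abbrev O1 (n : ℕ) (k : Type u) [Field k] : (CohB1.ProjSpace n k).Modules := Twist.twistProjSpace n k 1

/-- A constant as a global function. -/
def gc (c : k) : Γ(CohB1.ProjSpace n k, ⊤) :=
  Coh.toGlobal (CohB1.ProjSpace n k ↘ Spec (CommRingCat.of k)) c

theorem gc_add (a b : k) : gc (n := n) (a + b) = gc a + gc b := map_add _ a b
theorem gc_mul (a b : k) : gc (n := n) (a * b) = gc a * gc b := map_mul _ a b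
theorem gc_zero : gc (n := n) (0 : k) = 0 := map_zero _
theorem gc_one : gc (n := n) (1 : k) = 1 := map_one _

/-- The value of a section at a point, additively. -/
def evH (y : (⊤ : (CohB1.ProjSpace n k).Opens)) :
    ProjUP.Γm (O1 n k) →+ Twist.Loc (CohB1.polyGrading n k) y.1 :=
  AddMonoidHom.mk' (fun m => evT y (show Γ(Twist.twist (CohB1.polyGrading n k) 1, ⊤) from m)) fun _ _ => rfl

/-- Scaling of a section of `O(1)` by a constant. -/
def sm (c : k) : ProjUP.Γm (O1 n k) →+ ProjUP.Γm (O1 n k) :=
  AddMonoidHom.mk' (fun m => gc (n := n) c • (show Γ(O1 n k, ⊤) from m)) fun a b => smul_add _ _ _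

theorem evH_sm (y : (⊤ : (CohB1.ProjSpace n k).Opens)) (c : k) (m : ProjUP.Γm (O1 n k)) :
    evH y (sm c m) =
      algebraMap (MvPolynomial (Fin (n + 1)) k) (Twist.Loc (CohB1.polyGrading n k) y.1) (MvPolynomial.C c) * evH y m := by
  refine (evT_smul (𝒜 := CohB1.polyGrading n k) _ _ y).trans (congrArg (· * _) ?_)
  have h := Tango28.ev_const c ⊤ y
  rw [show (homOfLE (le_top : (⊤ : (CohB1.ProjSpace n k).Opens) ≤ ⊤)).op = 𝟙 _ from Subsingleton.elim _ _,
    CategoryTheory.Functor.map_id] at h
  exact h

theorem evH_coord (y : (⊤ : (CohB1.ProjSpace n k).Opens)) (j : Fin (n + 1)) :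
    evH y (ProjUP.coord n k j) = algebraMap (MvPolynomial (Fin (n + 1)) k) (Twist.Loc (CohB1.polyGrading n k) y.1) (MvPolynomial.X j) :=
  evT_gsec (𝒜 := CohB1.polyGrading n k) (MvPolynomial.X j) (MvPolynomial.isHomogeneous_X k j) y

/-- The section of `O(1)` given by a linear form. -/
def gform (c : Fin (n + 1) → k) : ProjUP.Γm (O1 n k) :=
  ∑ j, sm (c j) (ProjUP.coord n k j)

theorem gform_eq (c : Fin (n + 1) → k) :
    gform c = Twist.globalOf (CohB1.polyGrading n k) ⟨Tango28.form c, Tango28.form_mem c⟩ := by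
  refine evT_ext (𝒜 := CohB1.polyGrading n k) fun y => ?_
  refine Eq.trans ?_ (evT_gsec (𝒜 := CohB1.polyGrading n k) (Tango28.form c) (Tango28.form_mem c) y).symm
  show evH y (gform (n := n) c) = _
  rw [gform, map_sum, Tango28.form_apply, map_sum]
  refine Finset.sum_congr rfl fun j _ => ?_
  rw [evH_sm, evH_coord, MvPolynomial.smul_eq_C_mul, map_mul]

theorem polyGrading_mul (i : ℕ) :
    CohB1.polyGrading n k 1 * CohB1.polyGrading n k i = CohB1.polyGrading n k (i + 1) := by
  show MvPolynomial.homogeneousSubmodule (Fin (n + 1)) k 1 * MvPolynomial.homogeneousSubmodule _ k i = _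
  rw [← MvPolynomial.homogeneousSubmodule_one_pow (σ := Fin (n + 1)) (R := k) i, ← pow_succ', MvPolynomial.homogeneousSubmodule_one_pow]

theorem bijective_gform : Function.Bijective (gform (n := n) (k := k)) := by
  have h1 : CohB1.polyGrading n k 1 ≠ ⊥ := fun h =>
    MvPolynomial.X_ne_zero (R := k) (0 : Fin (n + 1))
      ((Submodule.mem_bot k).1 (h ▸ MvPolynomial.isHomogeneous_X k (0 : Fin (n + 1))))
  have hic : IsIntegrallyClosed (MvPolynomial (Fin (n + 1)) k) := UniqueFactorizationMonoid.instIsIntegrallyClosed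
  have hb := Groth.Agent.S10908.result (CohB1.polyGrading n k) polyGrading_mul h1 hic 1
  rw [show (gform (n := n) (k := k)) =
    (fun a : ↥(CohB1.polyGrading n k 1) => Twist.globalOf (CohB1.polyGrading n k) a) ∘
      fun c => (⟨Tango28.form c, Tango28.form_mem c⟩ : ↥(CohB1.polyGrading n k 1)) from funext gform_eq]
  refine hb.comp ⟨fun c d h => funext fun l => ?_, fun a => ?_⟩
  · have h' : Tango28.form c = Tango28.form d := congrArg Subtype.val h
    rw [← Tango28.coeff_form c l, ← Tango28.coeff_form d l, h']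
  · have ha : a.1 ∈ Submodule.span k (Set.range (MvPolynomial.X : Fin (n + 1) → MvPolynomial (Fin (n + 1)) k)) := by
      rw [← MvPolynomial.homogeneousSubmodule_one_eq_span_X]
      exact a.2
    obtain ⟨c, hc⟩ := (Submodule.mem_span_range_iff_exists_fun k).1 ha
    exact ⟨c, Subtype.ext ((Tango28.form_apply c).trans hc)⟩

theorem sm_add (a b : k) (m : ProjUP.Γm (O1 n k)) : sm (a + b) m = sm a m + sm b m := by
  show gc (n := n) (a + b) • (show Γ(O1 n k, ⊤) from m) = _
  rw [gc_add, add_smul]
  rfl

theorem sm_zero (m : ProjUP.Γm (O1 n k)) : sm (0 : k) m = 0 := by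
  show gc (n := n) (0 : k) • (show Γ(O1 n k, ⊤) from m) = _
  rw [gc_zero, zero_smul]

theorem sm_one (m : ProjUP.Γm (O1 n k)) : sm (1 : k) m = m := by
  show gc (n := n) (1 : k) • (show Γ(O1 n k, ⊤) from m) = _
  rw [gc_one, one_smul]

theorem sm_sm (a b : k) (m : ProjUP.Γm (O1 n k)) : sm (a * b) m = sm a (sm b m) := by
  show gc (n := n) (a * b) • (show Γ(O1 n k, ⊤) from m) = _
  rw [gc_mul, mul_smul]
  rfl

theorem gform_add (c d : Fin (n + 1) → k) : gform (c + d) = gform c + gform d := by
  simp only [gform, Pi.add_apply, sm_add]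
  exact Finset.sum_add_distrib

theorem gform_zero : gform (0 : Fin (n + 1) → k) = 0 :=
  Finset.sum_eq_zero fun j _ => sm_zero _

theorem gform_single (i : Fin (n + 1)) : gform (Pi.single i (1 : k)) = ProjUP.coord n k i := by
  rw [gform, Finset.sum_eq_single i]
  · rw [Pi.single_eq_same, sm_one]
  · intro j _ hj
    rw [Pi.single_eq_of_ne hj, sm_zero]
  · exact fun h => absurd (Finset.mem_univ i) h

theorem sm_gform (a : k) (c : Fin (n + 1) → k) : sm a (gform c) = gform (a • c) := by
  simp only [gform, map_sum, Pi.smul_apply, smul_eq_mul, sm_sm]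

theorem sum_sm_gform {ι : Type} (S : Finset ι) (a : ι → k) (c : ι → Fin (n + 1) → k) :
    ∑ l ∈ S, sm (a l) (gform (c l)) = gform (∑ l ∈ S, a l • c l) := by
  classical
  induction S using Finset.induction_on with
  | empty => simp [gform_zero]
  | insert l S hl ih => rw [Finset.sum_insert hl, Finset.sum_insert hl, ih, gform_add, sm_gform]

end GrothLib.PGL26
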