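import Groth.Agent.Lib.PGL26.Forms
import Groth.Agent.Lib.Tango28.Simple
import Groth.Agent.Lib.ProjPic26.Main
import Groth.Agent.Lib.Ample.RelAmple
import Groth.Agent.Lib.CurveMult.DegBound
import Groth.Agent.Lib.ProjCohom.Corollaries
import Groth.Agent.Lib.Chow.Prod
import Groth.Agent.S10962

/-!
# Automorphisms of projective space
-/

set_option autoImplicit false
set_option linter.all false
set_option backward.isDefEq.respectTransparency false
set_option backward.isDefEq.respectTransparency.types false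
set_option maxHeartbeats 1000000
set_option synthInstance.maxHeartbeats 200000

universe u

open CategoryTheory CategoryTheory.Limits AlgebraicGeometry TopologicalSpace Opposite
open GrothLib.ProjLift21 (Cl)

noncomputable section

namespace GrothLib.PGL26

variable {n : ℕ} {k : Type u} [Field k]

local notation "π" => CohB1.ProjSpace.toSpec n k

/-- The sections attached to a matrix. -/
def rowSec (A : Matrix (Fin (n + 1)) (Fin (n + 1)) k) (i : Fin (n + 1)) : ProjUP.Γm (O1 n k) := gform (A i)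

theorem germ_gform_mem (B A : Matrix (Fin (n + 1)) (Fin (n + 1)) k) (h : B * A = 1) (i : Fin (n + 1)) :
    ∑ j, sm (B i j) (rowSec A j) = ProjUP.coord n k i := by
  refine (sum_sm_gform Finset.univ (fun j => B i j) (fun j => A j)).trans ?_
  rw [← gform_single i]
  refine congrArg gform (funext fun l => ?_)
  rw [Finset.sum_apply, show (Pi.single i (1 : k) : Fin (n + 1) → k) l = (1 : Matrix _ _ k) i l from by
    rw [Matrix.one_apply]; simp [Pi.single_apply, eq_comm], ← h, Matrix.mul_apply]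
  simp [smul_eq_mul]

theorem generatedBy_rowSec (A B : Matrix (Fin (n + 1)) (Fin (n + 1)) k) (h : B * A = 1) :
    ProjUP.GeneratedBy (O1 n k) (rowSec A) := by
  intro x
  refine eq_top_iff.2 ((Algz56.generatedBy_coord n k x).ge.trans (Submodule.span_le.2 ?_))
  rintro _ ⟨i, rfl⟩
  dsimp only
  rw [← germ_gform_mem B A h i, map_sum]
  refine Submodule.sum_mem _ fun j _ => ?_
  show (O1 n k).presheaf.germ ⊤ x trivial (gc (n := n) (B i j) • (show Γ(O1 n k, ⊤) from rowSec A j)) ∈ _
  rw [WeakAss.germ_smul (show x ∈ (⊤ : (CohB1.ProjSpace n k).Opens) from trivial)]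
  exact Submodule.smul_mem _ _ (Submodule.subset_span ⟨j, rfl⟩)

theorem exists_mapA (A : Matrix.GeneralLinearGroup (Fin (n + 1)) k) :
    ∃ r : CohB1.ProjSpace n k ⟶ CohB1.ProjSpace n k, r ≫ π = π ∧ Cl r (O1 n k) (rowSec A.1) := by
  obtain ⟨r, hr, τ, hτ⟩ := Algz56.exists_toProj (CMReg.isInvertible_twist (n := n) (k := k) 1) (rowSec A.1)
    (generatedBy_rowSec A.1 (A⁻¹).1 (by rw [← Units.val_mul, inv_mul_cancel, Units.val_one])) π
  exact ⟨r, hr, τ, hτ⟩

/-- The automorphism given by a matrix. -/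
def mapA (A : Matrix.GeneralLinearGroup (Fin (n + 1)) k) : CohB1.ProjSpace n k ⟶ CohB1.ProjSpace n k :=
  (exists_mapA A).choose

theorem mapA_over (A : Matrix.GeneralLinearGroup (Fin (n + 1)) k) : mapA A ≫ π = π :=
  (exists_mapA A).choose_spec.1

theorem cl_mapA (A : Matrix.GeneralLinearGroup (Fin (n + 1)) k) : Cl (mapA A) (O1 n k) (rowSec A.1) :=
  (exists_mapA A).choose_spec.2

theorem eq_mapA {A : Matrix.GeneralLinearGroup (Fin (n + 1)) k} {r : CohB1.ProjSpace n k ⟶ CohB1.ProjSpace n k}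
    (hr : r ≫ π = π) (h : Cl r (O1 n k) (rowSec A.1)) : r = mapA A :=
  h.unique (cl_mapA A) (hr.trans (mapA_over A).symm)

theorem rowSec_one (i : Fin (n + 1)) : rowSec (1 : Matrix (Fin (n + 1)) (Fin (n + 1)) k) i = ProjUP.coord n k i := by
  rw [← gform_single i]
  refine congrArg gform (funext fun l => ?_)
  rw [Matrix.one_apply]; simp [Pi.single_apply, eq_comm]

theorem mapA_one : mapA (1 : Matrix.GeneralLinearGroup (Fin (n + 1)) k) = 𝟙 _ :=
  (eq_mapA (Category.id_comp _) ((Cl.id n k).of_iso (Iso.refl _) _ fun i => by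
    rw [Units.val_one, rowSec_one]; rfl)).symm

theorem appTop_gc (f : CohB1.ProjSpace n k ⟶ CohB1.ProjSpace n k) (hf : f ≫ π = π) (c : k) :
    f.appTop (gc (n := n) c) = gc (n := n) c := by
  show f.appTop ((CohB1.ProjSpace.toSpec n k).appTop _) = (CohB1.ProjSpace.toSpec n k).appTop _
  rw [← CommRingCat.comp_apply, ← Scheme.Hom.comp_appTop, hf]

/-- A pulled back linear combination, carried to `O(1)`. -/
theorem hom_pullSec_gform (f : CohB1.ProjSpace n k ⟶ CohB1.ProjSpace n k) (hf : f ≫ π = π)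
    (τ : (Scheme.Modules.pullback f).obj (O1 n k) ⟶ O1 n k) (c : Fin (n + 1) → k) :
    τ.app ⊤ (ProjUP.pullSec f (O1 n k) (gform c)) =
      ∑ j, sm (c j) (τ.app ⊤ (Ample.ProjMap.pullCoord f j)) := by
  let η := (Scheme.Modules.pullbackPushforwardAdjunction f).unit.app (O1 n k)
  show τ.app ⊤ (η.app ⊤ (gform c)) = _
  rw [gform, map_sum]
  refine (map_sum (τ.app ⊤).hom _ _).trans (Finset.sum_congr rfl fun j _ => ?_)
  show τ.app ⊤ (η.app ⊤ (gc (n := n) (c j) • (show Γ(O1 n k, ⊤) from ProjUP.coord n k j))) = _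
  have h1 : η.app ⊤ (gc (n := n) (c j) • (show Γ(O1 n k, ⊤) from ProjUP.coord n k j)) =
      (f.appTop (gc (n := n) (c j)) •
        (show Γ((Scheme.Modules.pullback f).obj (O1 n k), ⊤) from Ample.ProjMap.pullCoord f j) :
          Γ((Scheme.Modules.pullback f).obj (O1 n k), ⊤)) :=
    η.app_smul (gc (n := n) (c j)) (show Γ(O1 n k, ⊤) from ProjUP.coord n k j)
  rw [h1, appTop_gc f hf]
  exact Ample.app_smul τ (gc (n := n) (c j)) _

theorem mapA_mul (A B : Matrix.GeneralLinearGroup (Fin (n + 1)) k) : mapA B ≫ mapA A = mapA (A * B) := by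
  obtain ⟨τ, hτ⟩ := cl_mapA B
  refine eq_mapA (by rw [Category.assoc, mapA_over, mapA_over]) (((cl_mapA A).comp (mapA B)).of_iso τ _ fun i => ?_)
  refine (hom_pullSec_gform (mapA B) (mapA_over B) τ.hom (A.1 i)).trans ?_
  simp only [hτ, rowSec]
  refine (sum_sm_gform Finset.univ (fun j => A.1 i j) (fun j => B.1 j)).trans (congrArg gform (funext fun l => ?_))
  rw [Finset.sum_apply, Units.val_mul, Matrix.mul_apply]
  simp [smul_eq_mul]

/-- The automorphism over the base given by a matrix. -/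
def autHom : Matrix.GeneralLinearGroup (Fin (n + 1)) k →* Aut (Over.mk π) where
  toFun A := Over.isoMk
    { hom := mapA A
      inv := mapA A⁻¹
      hom_inv_id := by rw [mapA_mul, inv_mul_cancel, mapA_one]; rfl
      inv_hom_id := by rw [mapA_mul, mul_inv_cancel, mapA_one]; rfl } (mapA_over A)
  map_one' := Iso.ext (Over.OverMorphism.ext mapA_one)
  map_mul' A B := Iso.ext (Over.OverMorphism.ext (mapA_mul A B).symm)

theorem smul_id_app (c : k) (m : ProjUP.Γm (O1 n k)) :
    (c • 𝟙 (Twist.twistProjSpace n k 1 : (CohB1.ProjSpace n k).Modules)).app ⊤ m = sm c m := by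
  rw [KLin.smul_app_apply]
  show _ = gc (n := n) c • (show Γ(O1 n k, ⊤) from m)
  congr 1

theorem scalar_apply (c : k) (i : Fin (n + 1)) :
    rowSec (Matrix.scalar (Fin (n + 1)) c) i = sm c (ProjUP.coord n k i) := by
  rw [← gform_single i, sm_gform]
  refine congrArg gform (funext fun l => ?_)
  simp [Matrix.scalar_apply, Matrix.diagonal_apply, Pi.single_apply, eq_comm]

theorem mapA_eq_id_iff (A : Matrix.GeneralLinearGroup (Fin (n + 1)) k) :
    mapA A = 𝟙 _ ↔ ∃ c : kˣ, Matrix.scalar (Fin (n + 1)) (c : k) = A.1 := by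
  constructor
  · intro h
    obtain ⟨τ, hτ⟩ := (show Cl (𝟙 (CohB1.ProjSpace n k)) (O1 n k) (rowSec A.1) from h ▸ cl_mapA A)
    let e : (Scheme.Modules.pullback (𝟙 (CohB1.ProjSpace n k))).obj (O1 n k) ≅ O1 n k :=
      (Scheme.Modules.pullbackId _).app (O1 n k)
    obtain ⟨c, hc⟩ := Tango28.exists_eq_smul_id (n := n) (k := k) 1 (e.inv ≫ τ.hom)
    have hrow : ∀ i, rowSec A.1 i = sm c (ProjUP.coord n k i) := fun i => by
      rw [← hτ i, ← smul_id_app, ← hc]
      show τ.hom.app ⊤ _ = τ.hom.app ⊤ (e.inv.app ⊤ (ProjUP.coord n k i))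
      refine congrArg (τ.hom.app ⊤) ?_
      have h2 := ProjLift21.pullSec_id (O1 n k) (ProjUP.coord n k i)
      conv_rhs => rw [← h2]
      exact (Algz56.inv_hom_app e _).symm
    have hA : A.1 = Matrix.scalar (Fin (n + 1)) c := Matrix.ext fun i l => congrFun
      (bijective_gform.1 ((hrow i).trans (scalar_apply c i).symm)) l
    have hc0 : c ≠ 0 := fun h0 => by
      have := A.isUnit
      rw [hA, h0, map_zero] at this
      exact not_isUnit_zero this
    exact ⟨Units.mk0 c hc0, hA.symm⟩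
  · rintro ⟨c, hc⟩
    refine (eq_mapA (Category.id_comp _) ((Cl.id n k).of_iso
      { hom := (c : k) • 𝟙 (Twist.twistProjSpace n k 1 : (CohB1.ProjSpace n k).Modules)
        inv := ((c⁻¹ : kˣ) : k) • 𝟙 (Twist.twistProjSpace n k 1 : (CohB1.ProjSpace n k).Modules)
        hom_inv_id := by rw [Linear.smul_comp, Linear.comp_smul, Category.comp_id, smul_smul, Units.mul_inv, one_smul]
        inv_hom_id := by rw [Linear.smul_comp, Linear.comp_smul, Category.comp_id, smul_smul, Units.inv_mul, one_smul] }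
      _ fun i => ?_)).symm
    show ((c : k) • 𝟙 (Twist.twistProjSpace n k 1 : (CohB1.ProjSpace n k).Modules)).app ⊤ _ = _
    rw [smul_id_app, ← hc, scalar_apply]

theorem exists_iso_pullback_O1 (g : CohB1.ProjSpace n k ⟶ CohB1.ProjSpace n k) [IsIso g] (hg : g ≫ π = π) :
    Nonempty ((Scheme.Modules.pullback g).obj (O1 n k) ≅ O1 n k) := by
  have hinv : PicF.IsInvertible ((Scheme.Modules.pullback g).obj (O1 n k)) :=
    RelProjK.isInvertible_pullback g (CMReg.isInvertible_twist (n := n) (k := k) 1)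
  obtain ⟨d, ⟨φ⟩⟩ := ProjPic26.exists_iso_twist hinv
  rcases Nat.eq_zero_or_pos n with hn | hn
  · subst hn
    refine ProjPic26.nonempty_iso_twist_of_hasDeg ?_
    obtain ⟨e, he, hr⟩ := ProjPic26.hasDeg_of_iso φ.symm (ProjPic26.hasDeg_twist d)
    refine ⟨e, he, fun i j => ?_⟩
    obtain ⟨r, h1, h2⟩ := hr i j
    refine ⟨r, h1, h2.trans (congrArg ProjPic26.mono ?_)⟩
    have hij : i = j := Subsingleton.elim (α := Fin 1) i j
    funext l
    simp [ProjPic26.δ, hij]
  have hO : CohB1.IsAmple (O1 n k) := (Groth.Agent.S10962.result k n hn 1).2 one_pos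
  have hd0 : 0 < d := (Groth.Agent.S10962.result k n hn d).1
    ((Ample.isAmple_iff_of_iso φ).1 (Ample.isAmple_pullback_of_isAffineHom g hO))
  obtain ⟨m, rfl⟩ : ∃ m : ℕ, d = (m : ℤ) := ⟨d.toNat, by omega⟩
  haveI : IsProper ((CohB1.ProjSpace n k) ↘ Spec (CommRingCat.of k)) := Chow.isProper_toSpec n k
  haveI : (O1 n k).IsQuasicoherent :=
    Euler.isQuasicoherent_of_isFinLocFree (Euler.isFinLocFree_of_isInvertible (CMReg.isInvertible_twist (n := n) (k := k) 1))
  have Hi : IsPullback g ((CohB1.ProjSpace n k) ↘ Spec (CommRingCat.of k))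
      ((CohB1.ProjSpace n k) ↘ Spec (CommRingCat.of k)) (Spec.map (CommRingCat.ofHom (RingHom.id k))) :=
    haveI : IsIso (Spec.map (CommRingCat.ofHom (RingHom.id k))) := by
      rw [show CommRingCat.ofHom (RingHom.id k) = 𝟙 _ from rfl, Spec.map_id]; infer_instance
    IsPullback.of_horiz_isIso ⟨by
      rw [show CommRingCat.ofHom (RingHom.id k) = 𝟙 _ from rfl, Spec.map_id, Category.comp_id]
      exact hg⟩
  have h1 := CurveMult.finrank_HH_baseChange (RingHom.id k) g Hi (O1 n k) 0
  rw [(Euler.hhEquiv (A := k) φ 0).finrank_eq] at h1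
  obtain ⟨e₁⟩ := ProjCohom.nonempty_HH_zero (n := n) (R := k) m
  obtain ⟨e₂⟩ := ProjCohom.nonempty_HH_zero (n := n) (R := k) 1
  have h3 : (n + m).choose m = (n + 1).choose 1 := by
    rw [← ProjCohom.finrank_forms (K := k) n m, ← ProjCohom.finrank_forms (K := k) n 1, ← e₁.finrank_eq, ← e₂.finrank_eq]
    exact h1
  have hm1 : m = 1 := by
    by_contra hm
    obtain ⟨q, rfl⟩ : ∃ q, m = q + 2 := ⟨m - 2, by omega⟩
    have h4 : (n + 2).choose 2 ≤ (n + (q + 2)).choose (q + 2) := by
      rw [← Nat.choose_symm_add, ← Nat.choose_symm_add (a := n) (b := q + 2)]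
      exact Nat.choose_le_choose n (by omega)
    have h5 : n + 1 < (n + 2).choose 2 := by
      have hh : (n + 2).choose 2 = (n + 1).choose 1 + (n + 1).choose 2 := Nat.choose_succ_succ' (n + 1) 1
      have : 0 < (n + 1).choose 2 := Nat.choose_pos (by omega)
      have h1' := Nat.choose_one_right (n + 1)
      omega
    rw [Nat.choose_one_right] at h3
    omega
  subst hm1
  exact ⟨φ⟩

theorem exists_eq_mapA (g : CohB1.ProjSpace n k ⟶ CohB1.ProjSpace n k) [IsIso g] (hg : g ≫ π = π) :
    ∃ A, g = mapA A := by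
  obtain ⟨θ⟩ := exists_iso_pullback_O1 g hg
  choose a ha using fun i => bijective_gform.2 (θ.hom.app ⊤ (Ample.ProjMap.pullCoord g i))
  have hinj : LinearIndependent k (Matrix.of a).row := by
    rw [Fintype.linearIndependent_iff]
    intro v hv
    have h1 : θ.hom.app ⊤ (ProjUP.pullSec g (O1 n k) (gform v)) =
        θ.hom.app ⊤ (ProjUP.pullSec g (O1 n k) (gform 0)) := by
      rw [hom_pullSec_gform g hg θ.hom v, hom_pullSec_gform g hg θ.hom 0]
      simp only [← ha, Pi.zero_apply, sm_zero, Finset.sum_const_zero]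
      refine (sum_sm_gform Finset.univ v a).trans ?_
      rw [show ∑ l, v l • a l = 0 from hv, gform_zero]
    have h2 := (ProjLift21.bijective_app_top θ).1 h1
    have h3 := congrArg (fun z => ProjLift21.cancelSec (inv g) g (IsIso.inv_hom_id g) (O1 n k)
      (ProjUP.pullSec (inv g) _ z)) h2
    simp only [ProjLift21.cancelSec_pullSec] at h3
    exact congrFun (bijective_gform.1 h3)
  have hu : IsUnit (Matrix.of a) := Matrix.linearIndependent_rows_iff_isUnit.1 hinj
  exact ⟨hu.unit, eq_mapA hg ⟨θ, fun i => (ha i).symm⟩⟩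

end GrothLib.PGL26
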